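import Mathlib
import Groth.Agent.FlatMorSmoothSect.Scheme

/-!
Étale faithfully flat algebras over which a smooth surjective morphism has a section.
-/

set_option autoImplicit false
set_option linter.style.haveILetI false

universe u

open CategoryTheory CategoryTheory.Limits AlgebraicGeometry

namespace Groth.Agent.Sect5

/-- A smooth surjective scheme over an affine base has a section over an étale faithfully flat algebra. -/
theorem exists_ff_etale_section {R : Type u} [CommRing R] {X : Scheme.{u}}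
    (f : X ⟶ Spec (CommRingCat.of R)) [Smooth f] [Surjective f] :
    ∃ (R' : Type u) (_ : CommRing R') (_ : Algebra R R'), Algebra.Etale R R' ∧
      Module.FaithfullyFlat R R' ∧
      ∃ h : Spec (CommRingCat.of R') ⟶ X, h ≫ f = Spec.map (CommRingCat.ofHom (algebraMap R R')) := by
  classical
  have key : ∀ s : Spec (CommRingCat.of R), ∃ (W : Scheme.{u}) (g : W ⟶ Spec (CommRingCat.of R)),
      IsAffine W ∧ Etale g ∧ s ∈ Set.range g ∧ ∃ h : W ⟶ X, h ≫ f = g := fun s => by
    obtain ⟨x, hx⟩ := f.surjective s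
    obtain ⟨S', g, s', hg, hs', h, hh⟩ := FlatMorSmoothSect.exists_section_etale_locally f x
    obtain ⟨U, hU, hs'U, -⟩ := exists_isAffineOpen_mem_and_subset (x := s') (U := ⊤) trivial
    exact ⟨U, U.ι ≫ g, hU, inferInstance, ⟨⟨s', hs'U⟩, by rw [Scheme.Hom.comp_apply]; exact hs'.trans hx⟩,
      U.ι ≫ h, by rw [Category.assoc, hh]⟩
  choose W g hW hg hsW h hh using key
  have hopen : ∀ s, IsOpen (Set.range (g s)) := fun s =>
    haveI := hg s
    (g s).isOpenMap.isOpen_range
  obtain ⟨t, ht⟩ := isCompact_univ.elim_finite_subcover (fun s => Set.range (g s)) hopen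
    (fun s _ => Set.mem_iUnion.mpr ⟨s, hsW s⟩)
  let Z : t → Scheme.{u} := fun i => W i
  haveI : ∀ i, IsAffine (Z i) := fun i => hW _
  let G : (∐ Z) ⟶ Spec (CommRingCat.of R) := Sigma.desc fun i => g i
  have hG : Etale G := IsZariskiLocalAtSource.sigmaDesc fun i => hg _
  let R' : Type u := Γ((∐ Z : Scheme.{u}), ⊤)
  let φ : CommRingCat.of R ⟶ Γ((∐ Z : Scheme.{u}), ⊤) := Spec.preimage ((∐ Z : Scheme.{u}).isoSpec.inv ≫ G)
  letI : Algebra R R' := φ.hom.toAlgebra
  have hφ : Spec.map φ = (∐ Z : Scheme.{u}).isoSpec.inv ≫ G := Spec.map_preimage _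
  haveI het : Etale (Spec.map φ) := by rw [hφ]; infer_instance
  haveI : Algebra.Etale R R' :=
    RingHom.etale_algebraMap.1 ((HasRingHomProperty.Spec_iff (P := @Etale)).1 het)
  have hsurj : ∀ s, s ∈ Set.range (Spec.map φ) := fun s => by
    obtain ⟨i, hi, z, hz⟩ := Set.mem_iUnion₂.mp (ht (Set.mem_univ s))
    refine ⟨(∐ Z : Scheme.{u}).isoSpec.hom (Sigma.ι Z ⟨i, hi⟩ z), ?_⟩
    rw [hφ, ← Scheme.Hom.comp_apply, Iso.hom_inv_id_assoc, ← Scheme.Hom.comp_apply, Sigma.ι_desc]
    exact hz
  haveI : Module.FaithfullyFlat R R' := Module.FaithfullyFlat.of_comap_surjective fun s => by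
    obtain ⟨z, hz⟩ := hsurj s
    exact ⟨z, hz⟩
  refine ⟨R', inferInstance, inferInstance, inferInstance, inferInstance,
    (∐ Z : Scheme.{u}).isoSpec.inv ≫ Sigma.desc (fun i => h i), ?_⟩
  show _ = Spec.map φ
  rw [hφ, Category.assoc]
  congr 1
  refine Sigma.hom_ext _ _ fun i => ?_
  simp only [G, Sigma.ι_desc_assoc, Sigma.ι_desc]
  exact hh _

end Groth.Agent.Sect5
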